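import Mathlib

/-!
# Block diagonal sums and monomial wreath representations by matrices
-/

set_option autoImplicit false

namespace Cfsg.Agent.Lib.ClassicalSylowTwo

open Matrix

variable {F : Type*} [CommRing F]
variable {κ η : Type*} [Fintype κ] [DecidableEq κ] [Fintype η] [DecidableEq η]
variable {Q : Type*} [Group Q] [Fintype Q] [DecidableEq Q]

/-- block monomial matrix -/
def monoMat (A : Q → Matrix κ κ F) (r : Q) : Matrix (κ × Q) (κ × Q) F :=
  Matrix.of fun a b => if b.2 = r⁻¹ * a.2 then A a.2 a.1 b.1 else 0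

theorem monoMat_apply (A : Q → Matrix κ κ F) (r : Q) (a b : κ × Q) :
    monoMat A r a b = if b.2 = r⁻¹ * a.2 then A a.2 a.1 b.1 else 0 := rfl

theorem monoMat_mul (A B : Q → Matrix κ κ F) (r s : Q) :
    monoMat A r * monoMat B s = monoMat (fun x => A x * B (r⁻¹ * x)) (r * s) := by
  ext ⟨i, x⟩ ⟨k, z⟩
  rw [Matrix.mul_apply, Fintype.sum_prod_type, Finset.sum_comm, Finset.sum_eq_single (r⁻¹ * x)]
  · simp only [monoMat_apply, if_true, Matrix.mul_apply, _root_.mul_inv_rev, mul_assoc]
    split_ifs with h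
    · rfl
    · simp
  · intro y _ hy
    exact Finset.sum_eq_zero fun j _ => by simp [monoMat_apply, hy]
  · intro h; exact absurd (Finset.mem_univ _) h

theorem monoMat_one : monoMat (fun _ : Q => (1 : Matrix κ κ F)) 1 = 1 := by
  ext ⟨i, x⟩ ⟨k, z⟩
  rw [monoMat_apply, Matrix.one_apply]
  simp only [inv_one, one_mul, Matrix.one_apply, Prod.mk.injEq]
  by_cases hi : i = k <;> by_cases hx : z = x <;> simp [hi, hx, Ne.symm]

theorem monoMat_eq_blockDiagonal (A : Q → Matrix κ κ F) :
    monoMat A 1 = Matrix.blockDiagonal A := by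
  ext ⟨i, x⟩ ⟨k, z⟩
  rw [monoMat_apply, Matrix.blockDiagonal_apply]
  simp [eq_comm]

theorem monoMat_mul_transpose (A B : Q → Matrix κ κ F) (r : Q) :
    monoMat A r * (monoMat B r)ᵀ = monoMat (fun x => A x * (B x)ᵀ) 1 := by
  ext ⟨i, x⟩ ⟨k, z⟩
  rw [Matrix.mul_apply, Fintype.sum_prod_type, Finset.sum_comm, Finset.sum_eq_single (r⁻¹ * x)]
  · simp only [monoMat_apply, Matrix.transpose_apply, if_true, Matrix.mul_apply, inv_one, one_mul]
    by_cases h : z = x
    · subst h; simp
    · rw [if_neg h]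
      exact Finset.sum_eq_zero fun j _ => by
        rw [if_neg (fun h' => h (mul_left_cancel h').symm), mul_zero]
  · intro y _ hy
    exact Finset.sum_eq_zero fun j _ => by simp [monoMat_apply, hy]
  · intro h; exact absurd (Finset.mem_univ _) h

/-- the monomial representation of a wreath product -/
def monoHom {D : Type*} [Group D] (φ : D →* Matrix κ κ F) :
    D ≀ᵣ Q →* Matrix (κ × Q) (κ × Q) F where
  toFun w := monoMat (fun x => φ (w.left x)) w.right
  map_one' := by
    have h : (fun x => φ ((1 : D ≀ᵣ Q).left x)) = fun _ : Q => (1 : Matrix κ κ F) := by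
      funext x; simp
    rw [h, RegularWreathProduct.one_right, monoMat_one]
  map_mul' a b := by
    rw [monoMat_mul, RegularWreathProduct.mul_right]
    congr 1
    funext x
    simp

theorem exists_row_ne_zero [Nontrivial F] {D : Type*} [Group D] (φ : D →* Matrix κ κ F) (d : D)
    (i : κ) : ∃ j, φ d i j ≠ 0 := by
  by_contra h
  push Not at h
  have h1 : (φ d * φ d⁻¹) i i = 1 := by rw [← map_mul, mul_inv_cancel, map_one, Matrix.one_apply_eq]
  simp [Matrix.mul_apply, h] at h1

theorem monoHom_injective [Nontrivial F] [Nonempty κ] {D : Type*} [Group D]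
    (φ : D →* Matrix κ κ F) (hφ : Function.Injective φ) :
    Function.Injective (monoHom (Q := Q) φ) := by
  intro a b h
  have he : ∀ p q : κ × Q, monoMat (fun x => φ (a.left x)) a.right p q =
      monoMat (fun x => φ (b.left x)) b.right p q := fun p q => congrFun (congrFun h p) q
  have hr : a.right = b.right := by
    obtain ⟨i⟩ := ‹Nonempty κ›
    obtain ⟨j, hj⟩ := exists_row_ne_zero φ (a.left 1) i
    have := he (i, 1) (j, a.right⁻¹)
    simp only [monoMat_apply, mul_one, if_true] at this
    by_contra hne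
    rw [if_neg (fun h' => hne (inv_injective h'))] at this
    exact hj this
  ext x
  · apply hφ
    ext i j
    have := he (i, x) (j, a.right⁻¹ * x)
    simpa [monoMat_apply, hr] using this
  · exact hr

theorem monoHom_preserves {D : Type*} [Group D] (φ : D →* Matrix κ κ F) (J : Matrix κ κ F)
    (hJ : ∀ d, φ d * J * (φ d)ᵀ = J) (w : D ≀ᵣ Q) :
    monoHom φ w * Matrix.blockDiagonal (fun _ : Q => J) * (monoHom φ w)ᵀ =
      Matrix.blockDiagonal (fun _ : Q => J) := by
  show monoMat (fun x => φ (w.left x)) w.right * _ * (monoMat (fun x => φ (w.left x)) w.right)ᵀ = _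
  rw [← monoMat_eq_blockDiagonal, monoMat_mul, mul_one, monoMat_mul_transpose]
  simp only [hJ]

theorem det_monoHom {D : Type*} [Group D] (φ : D →* Matrix κ κ F) (heven : Even (Fintype.card κ))
    (w : D ≀ᵣ Q) : (monoHom φ w).det = ∏ x, (φ (w.left x)).det := by
  have hw : w = ⟨w.left, 1⟩ * RegularWreathProduct.inl w.right := by ext x <;> simp
  conv_lhs => rw [hw]
  rw [map_mul, Matrix.det_mul]
  have h1 : (monoHom φ (⟨w.left, 1⟩ : D ≀ᵣ Q)).det = ∏ x, (φ (w.left x)).det := by
    show (monoMat (fun x => φ (w.left x)) 1).det = _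
    rw [monoMat_eq_blockDiagonal, Matrix.det_blockDiagonal]
  have h2 : (monoHom φ (RegularWreathProduct.inl w.right : D ≀ᵣ Q)).det = 1 := by
    show (monoMat (fun x => φ ((RegularWreathProduct.inl w.right : D ≀ᵣ Q).left x)) w.right).det = 1
    let σ : Equiv.Perm (κ × Q) := Equiv.prodCongrRight fun _ : κ => Equiv.mulLeft w.right⁻¹
    have hm : monoMat (fun x => φ ((RegularWreathProduct.inl w.right : D ≀ᵣ Q).left x)) w.right
        = (1 : Matrix (κ × Q) (κ × Q) F).submatrix σ id := by
      ext ⟨i, x⟩ ⟨k, z⟩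
      rw [monoMat_apply, RegularWreathProduct.left_inl, Pi.one_apply, map_one,
        Matrix.submatrix_apply, Matrix.one_apply, Matrix.one_apply, id]
      simp only [σ, Equiv.prodCongrRight_apply, Equiv.coe_mulLeft, Prod.mk.injEq]
      by_cases hi : i = k <;> by_cases hx : z = w.right⁻¹ * x <;> simp [hi, hx, eq_comm]
    rw [hm, Matrix.det_permute, Matrix.det_one, mul_one, Equiv.Perm.sign_prodCongrRight,
      Finset.prod_const, Finset.card_univ]
    obtain ⟨l, hl⟩ := heven
    rw [hl, pow_add, Int.units_mul_self]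
    simp
  rw [h1, h2, mul_one]

/-- block diagonal sum of two representations -/
def sumHom {D E : Type*} [Group D] [Group E] (φ : D →* Matrix κ κ F) (ψ : E →* Matrix η η F) :
    D × E →* Matrix (κ ⊕ η) (κ ⊕ η) F where
  toFun p := Matrix.fromBlocks (φ p.1) 0 0 (ψ p.2)
  map_one' := by simp
  map_mul' a b := by simp [Matrix.fromBlocks_multiply]

theorem sumHom_injective {D E : Type*} [Group D] [Group E] (φ : D →* Matrix κ κ F)
    (ψ : E →* Matrix η η F) (hφ : Function.Injective φ) (hψ : Function.Injective ψ) :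
    Function.Injective (sumHom φ ψ) := by
  intro a b h
  obtain ⟨h1, -, -, h4⟩ := Matrix.fromBlocks_inj.1 h
  exact Prod.ext (hφ h1) (hψ h4)

theorem det_sumHom {D E : Type*} [Group D] [Group E] (φ : D →* Matrix κ κ F)
    (ψ : E →* Matrix η η F) (p : D × E) : (sumHom φ ψ p).det = (φ p.1).det * (ψ p.2).det :=
  Matrix.det_fromBlocks_zero₂₁ _ _ _

theorem sumHom_preserves {D E : Type*} [Group D] [Group E] (φ : D →* Matrix κ κ F)
    (ψ : E →* Matrix η η F) (J : Matrix κ κ F) (K : Matrix η η F)
    (hJ : ∀ d, φ d * J * (φ d)ᵀ = J) (hK : ∀ e, ψ e * K * (ψ e)ᵀ = K) (p : D × E) :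
    sumHom φ ψ p * Matrix.fromBlocks J 0 0 K * (sumHom φ ψ p)ᵀ = Matrix.fromBlocks J 0 0 K := by
  show Matrix.fromBlocks _ _ _ _ * _ * (Matrix.fromBlocks _ _ _ _)ᵀ = _
  simp [Matrix.fromBlocks_transpose, Matrix.fromBlocks_multiply, hJ, hK]

/-- re-indexing a representation -/
def reindexHom {D : Type*} [Group D] (e : κ ≃ η) (φ : D →* Matrix κ κ F) :
    D →* Matrix η η F where
  toFun d := Matrix.reindex e e (φ d)
  map_one' := by simp
  map_mul' a b := by simp [Matrix.submatrix_mul_equiv]

theorem reindexHom_injective {D : Type*} [Group D] (e : κ ≃ η) (φ : D →* Matrix κ κ F)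
    (hφ : Function.Injective φ) : Function.Injective (reindexHom e φ) :=
  fun _ _ h => hφ ((Matrix.reindex e e).injective h)

theorem det_reindexHom {D : Type*} [Group D] (e : κ ≃ η) (φ : D →* Matrix κ κ F) (d : D) :
    (reindexHom e φ d).det = (φ d).det :=
  Matrix.det_reindex_self e _

theorem reindexHom_preserves {D : Type*} [Group D] (e : κ ≃ η) (φ : D →* Matrix κ κ F)
    (J : Matrix κ κ F) (hJ : ∀ d, φ d * J * (φ d)ᵀ = J) (d : D) :
    reindexHom e φ d * Matrix.reindex e e J * (reindexHom e φ d)ᵀ = Matrix.reindex e e J := by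
  show Matrix.reindex e e (φ d) * _ * (Matrix.reindex e e (φ d))ᵀ = _
  rw [Matrix.transpose_reindex]
  simp only [Matrix.reindex_apply, Matrix.submatrix_mul_equiv, hJ]

end Cfsg.Agent.Lib.ClassicalSylowTwo
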