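import Mathlib
import Cfsg.Agent.Lib.ClassicalSylowTwo.Group
import Cfsg.Agent.Lib.ClassicalSylowTwo.Arith
import Cfsg.Agent.Lib.ClassicalSylowTwo.Mono
import Cfsg.Agent.Lib.LinGroup.Order
import Cfsg.Agent.Lib.LinGroup.SLTwoTwoSylow

/-!
# Sylow 2-subgroups of general and special linear groups in odd characteristic
-/

set_option autoImplicit false

namespace Cfsg.Agent.Lib.ClassicalSylowTwo

open Matrix

universe u

variable {F : Type u} [Field F] [Fintype F]

theorem v_pow_odd {q : ℕ} (hq : Odd q) (e : ℕ) : padicValNat 2 (q ^ e) = 0 :=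
  padicValNat.eq_zero_of_not_dvd fun h => by
    have := Nat.prime_two.dvd_of_dvd_pow h
    rw [Nat.odd_iff] at hq
    omega

/-- 2-part exponent of `|GL_n(F)|` -/
theorem v_general (hF : Odd (Fintype.card F)) (n : ℕ) :
    (Nat.card (GL (Fin n) F)).factorization 2 = padicValNat 2 (glProd (Fintype.card F) n) := by
  have hq2 : 2 ≤ Fintype.card F := Fintype.one_lt_card
  set q := Fintype.card F
  rw [LinGroup.card_GL_fintype, Nat.factorization_def _ Nat.prime_two]
  have h1 : (∏ i : Fin n, (q ^ n - q ^ (i : ℕ))) =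
      (∏ i ∈ Finset.range n, q ^ i) * glProd q n := by
    rw [Fin.prod_univ_eq_prod_range (fun i => q ^ n - q ^ i) n]
    have h2 : glProd q n = ∏ i ∈ Finset.range n, (q ^ (n - i) - 1) := by
      rw [glProd, ← Finset.prod_range_reflect]
      exact Finset.prod_congr rfl fun i hi => by
        rw [Finset.mem_range] at hi
        congr 2
        omega
    rw [h2, ← Finset.prod_mul_distrib]
    exact Finset.prod_congr rfl fun i hi => by
      rw [Finset.mem_range] at hi
      rw [Nat.mul_sub_one, ← pow_add]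
      congr 2
      omega
  rw [h1, Finset.prod_pow_eq_pow_sum, padicValNat.mul (pow_ne_zero _ (by omega)) (glProd_ne_zero hq2 n),
    v_pow_odd hF, zero_add]

theorem v_special (hF : Odd (Fintype.card F)) (n : ℕ) (hn : 1 ≤ n) :
    (Nat.card (SpecialLinearGroup (Fin n) F)).factorization 2 + padicValNat 2 (Fintype.card F - 1) =
      (Nat.card (GL (Fin n) F)).factorization 2 := by
  have hq2 : 2 ≤ Fintype.card F := Fintype.one_lt_card
  haveI : Nonempty (Fin n) := ⟨⟨0, hn⟩⟩
  rw [← LinGroup.units_card_mul_card_SL, LinGroup.card_units_eq_sub_one,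
    Nat.factorization_def _ Nat.prime_two, Nat.factorization_def _ Nat.prime_two,
    padicValNat.mul (by omega) Nat.card_pos.ne', add_comm]

theorem v_general_even (hF : Odd (Fintype.card F)) (m : ℕ) :
    (Nat.card (GL (Fin (2 * m)) F)).factorization 2 =
      m * (padicValNat 2 (Fintype.card F - 1) + padicValNat 2 (Fintype.card F ^ 2 - 1)) +
        padicValNat 2 m.factorial := by
  rw [v_general hF, v_glProd_even hF Fintype.one_lt_card]

section reps
variable {n : ℕ} {D : Type u} [Group D]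

/-- determinant of a representation -/
def repDet (φ : D →* Matrix (Fin n) (Fin n) F) : D →* Fˣ :=
  ((Matrix.detMonoidHom).comp φ).toHomUnits

omit [Fintype F] in
theorem repDet_coe (φ : D →* Matrix (Fin n) (Fin n) F) (d : D) :
    (repDet φ d : F) = (φ d).det := rfl

/-- the kernel of the determinant, as a subgroup of `SL` -/
def kerToSL (φ : D →* Matrix (Fin n) (Fin n) F) : (repDet φ).ker →* SpecialLinearGroup (Fin n) F where
  toFun d := ⟨φ d.1, by rw [← repDet_coe, MonoidHom.mem_ker.1 d.2]; rfl⟩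
  map_one' := Subtype.ext (map_one φ)
  map_mul' a b := Subtype.ext (map_mul φ _ _)

theorem two_group_value [Finite D] (hD : IsPGroup 2 D) (χ : D →* Fˣ) :
    Nat.card χ.range ∣ 2 ^ padicValNat 2 (Fintype.card F - 1) := by
  haveI : Fact (Nat.Prime 2) := ⟨Nat.prime_two⟩
  obtain ⟨e, he⟩ := (hD.of_surjective χ.rangeRestrict χ.rangeRestrict_surjective).exists_card_eq
  have h1 : 2 ^ e ∣ Fintype.card F - 1 := by
    rw [← he, ← LinGroup.card_units_eq_sub_one]
    exact Subgroup.card_subgroup_dvd_card _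
  rw [he]
  refine pow_dvd_pow 2 ?_
  exact (padicValNat_dvd_iff_le (by have := Fintype.one_lt_card (α := F); omega)).1 h1

/-- the kernel of the determinant of a Sylow-sized representation is Sylow-sized in `SL` -/
theorem card_ker (hF : Odd (Fintype.card F)) (hn : 1 ≤ n) [Finite D]
    (φ : D →* Matrix (Fin n) (Fin n) F) (hφ : Function.Injective φ)
    (hcard : Nat.card D = 2 ^ (Nat.card (GL (Fin n) F)).factorization 2) :
    Function.Injective (kerToSL φ) ∧ Nat.card (repDet φ).ker =
      2 ^ (Nat.card (SpecialLinearGroup (Fin n) F)).factorization 2 := by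
  haveI : Fact (Nat.Prime 2) := ⟨Nat.prime_two⟩
  have hD : IsPGroup 2 D := IsPGroup.of_card hcard
  have hinj : Function.Injective (kerToSL φ) := fun a b h =>
    Subtype.ext (hφ (congrArg Subtype.val h))
  refine ⟨hinj, ?_⟩
  obtain ⟨e, he⟩ := (hD.to_subgroup (repDet φ).ker).exists_card_eq
  have hle : e ≤ (Nat.card (SpecialLinearGroup (Fin n) F)).factorization 2 := by
    refine (Nat.Prime.pow_dvd_iff_le_factorization Nat.prime_two Nat.card_pos.ne').1 ?_
    rw [← he, Nat.card_congr (MonoidHom.ofInjective hinj).toEquiv]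
    exact Subgroup.card_subgroup_dvd_card _
  obtain ⟨i, hi, hi'⟩ := (Nat.dvd_prime_pow Nat.prime_two).1 (two_group_value hD (repDet φ))
  have h2 := (repDet φ).ker.card_mul_index
  rw [Subgroup.index_ker, he, hi', hcard, ← pow_add] at h2
  have h3 := Nat.pow_right_injective le_rfl h2
  have h4 := v_special hF n hn
  rw [he]
  congr 1
  omega

theorem repDet_eq (hq3 : Fintype.card F % 4 = 3) [Finite D] (hD : IsPGroup 2 D)
    (φ : D →* Matrix (Fin n) (Fin n) F) (d : D) : repDet φ d = 1 ∨ repDet φ d = -1 := by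
  haveI : Fact (Nat.Prime 2) := ⟨Nat.prime_two⟩
  have h1 : padicValNat 2 (Fintype.card F - 1) = 1 := by
    obtain ⟨l, hl⟩ : ∃ l, Fintype.card F - 1 = 2 * (2 * l + 1) :=
      ⟨(Fintype.card F - 1) / 4, by omega⟩
    rw [hl, padicValNat.mul two_ne_zero (by omega), padicValNat.self one_lt_two,
      padicValNat.eq_zero_of_not_dvd (by omega)]
  have h2 := two_group_value hD (repDet φ)
  rw [h1, pow_one] at h2
  have h3 : repDet φ d ^ 2 = 1 := by
    have h4 : (⟨repDet φ d, d, rfl⟩ : (repDet φ).range) ^ Nat.card (repDet φ).range = 1 :=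
      pow_card_eq_one'
    obtain ⟨l, hl⟩ := h2
    have h5 := congrArg Subtype.val h4
    simp only [SubmonoidClass.coe_pow, OneMemClass.coe_one] at h5
    rw [hl, pow_mul, h5, one_pow]
  have h6 : (repDet φ d : F) ^ 2 = 1 := by rw [← Units.val_pow_eq_pow_val, h3, Units.val_one]
  rcases sq_eq_one_iff.1 h6 with h | h
  · exact Or.inl (Units.ext h)
  · exact Or.inr (Units.ext h)

end reps

/-- Sylow-sized representation in `GL_{2m}` whose determinant kernel has elementary derived
factor group; the extra clause for `q ≡ 3 (mod 4)` -/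
def GLGood (F : Type u) [Field F] [Fintype F] (m : ℕ) : Prop :=
  ∃ (D : Type u) (_ : Group D) (_ : Finite D) (φ : D →* Matrix (Fin (2 * m)) (Fin (2 * m)) F),
    Function.Injective φ ∧ Nat.card D = 2 ^ (Nat.card (GL (Fin (2 * m)) F)).factorization 2 ∧
      SqComm (repDet φ).ker ∧
      (Fintype.card F % 4 = 3 → SqComm D ∧ ∃ s : D, s * s = 1 ∧ repDet φ s = -1)

theorem sqComm_of_ker {D : Type u} [Group D] (χ : D →* Fˣ) (hval : ∀ d, χ d = 1 ∨ χ d = -1)
    (hk : SqComm χ.ker) (s : D) (hs : s * s = 1) (hsdet : χ s = -1) : SqComm D := by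
  refine sqComm_iff.2 fun d => ?_
  have hker : ∀ x : D, χ x = 1 → Abelianization.of x ^ 2 = 1 := fun x hx =>
    hk.sq_of χ.ker.subtype ⟨x, hx⟩
  rcases hval d with h | h
  · exact hker d h
  · have hd : d = (d * s) * s := by rw [mul_assoc, hs, mul_one]
    rw [hd, map_mul, mul_pow, hker (d * s) (by rw [map_mul, h, hsdet]; simp), one_mul, ← map_pow,
      pow_two, hs, map_one]

theorem glGood_one (hF : Odd (Fintype.card F)) : GLGood F 1 := by
  classical
  haveI : Fact (Nat.Prime 2) := ⟨Nat.prime_two⟩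
  let s : GL (Fin (2 * 1)) F :=
    ⟨Matrix.diagonal ![1, -1], Matrix.diagonal ![1, -1],
      by rw [Matrix.diagonal_mul_diagonal, ← Matrix.diagonal_one]; congr 1; funext i; fin_cases i <;> simp,
      by rw [Matrix.diagonal_mul_diagonal, ← Matrix.diagonal_one]; congr 1; funext i; fin_cases i <;> simp⟩
  have hs : s * s = 1 := Units.ext s.val_inv
  have hsp : IsPGroup 2 (Subgroup.zpowers s) := by
    refine IsPGroup.of_card (n := if s = 1 then 0 else 1) ?_
    rw [Nat.card_zpowers]
    split_ifs with h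
    · rw [h, orderOf_one, pow_zero]
    · rw [pow_one, orderOf_eq_prime (by rw [pow_two, hs]) h]
  obtain ⟨P, hP⟩ := hsp.exists_le_sylow
  refine ⟨(P : Subgroup (GL (Fin (2 * 1)) F)), inferInstance, inferInstance,
    (Units.coeHom _).comp (P : Subgroup (GL (Fin (2 * 1)) F)).subtype,
    fun a b h => Subtype.ext (Units.ext h), Sylow.card_eq_multiplicity P, ?_⟩
  set φ := (Units.coeHom (Matrix (Fin (2 * 1)) (Fin (2 * 1)) F)).comp
    (P : Subgroup (GL (Fin (2 * 1)) F)).subtype
  obtain ⟨hinj, hcard⟩ := card_ker hF (n := 2 * 1) (by omega) φ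
    (fun a b h => Subtype.ext (Units.ext h)) (Sylow.card_eq_multiplicity P)
  obtain ⟨Q⟩ : Nonempty (Sylow 2 (SpecialLinearGroup (Fin (2 * 1)) F)) := Sylow.nonempty
  obtain ⟨e⟩ := exists_sylow_equiv (kerToSL φ) hinj hcard Q
  obtain ⟨k, hk, -, ⟨iso⟩⟩ := LinGroup.exists_sylow_two_equiv_quaternion hF Q
  have hker : SqComm (repDet φ).ker :=
    ((quaternion_sqComm ((Nat.even_pow).2 ⟨even_two, by omega⟩)).of_equiv iso.symm).of_equiv e.symm
  refine ⟨hker, fun hq3 => ?_⟩
  have hs1 : (⟨s, hP (Subgroup.mem_zpowers s)⟩ : (P : Subgroup (GL (Fin (2 * 1)) F))) *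
      ⟨s, hP (Subgroup.mem_zpowers s)⟩ = 1 := Subtype.ext hs
  have hs2 : repDet φ ⟨s, hP (Subgroup.mem_zpowers s)⟩ = -1 := by
    refine Units.ext ?_
    rw [repDet_coe]
    show (Matrix.diagonal ![(1 : F), -1]).det = _
    simp [Matrix.det_diagonal, Fin.prod_univ_two]
  exact ⟨sqComm_of_ker _ (repDet_eq hq3 P.isPGroup' φ) hker _ hs1 hs2, _, hs1, hs2⟩

theorem glGood_double (hF : Odd (Fintype.card F)) (k : ℕ) (h : GLGood F (2 ^ k)) :
    GLGood F (2 ^ (k + 1)) := by
  classical
  obtain ⟨D, _, _, φ, hφ, hc, hk, hfull⟩ := h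
  let e : Fin (2 * 2 ^ k) × C2 ≃ Fin (2 * 2 ^ (k + 1)) :=
    Fintype.equivFinOfCardEq (by simp [pow_succ]; ring)
  haveI : Nonempty (Fin (2 * 2 ^ k)) := ⟨⟨0, by positivity⟩⟩
  let ψ : D ≀ᵣ C2 →* Matrix (Fin (2 * 2 ^ (k + 1))) (Fin (2 * 2 ^ (k + 1))) F :=
    reindexHom e (monoHom (Q := C2) φ)
  have hdet : ∀ w : D ≀ᵣ C2, repDet ψ w = ∏ x, repDet φ (w.left x) := fun w => by
    refine Units.ext ?_
    rw [repDet_coe, Units.coe_prod, det_reindexHom, det_monoHom φ (by simp)]
    rfl
  haveI : Finite (D ≀ᵣ C2) := Finite.of_equiv _ (RegularWreathProduct.equivProd D C2).symm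
  refine ⟨D ≀ᵣ C2, inferInstance, inferInstance, ψ,
    reindexHom_injective _ _ (monoHom_injective φ hφ), ?_, ?_, ?_⟩
  · rw [RegularWreathProduct.card, natCard_C2, hc, ← pow_mul, ← pow_succ, v_general_even hF,
      v_general_even hF, pow_succ' 2 k, vfac_two_mul]
    have := vfac_two_pow k
    congr 1
    rw [mul_assoc]
    omega
  · set K := (repDet ψ).ker
    let σ : C2 := Multiplicative.ofAdd 1
    have hσ : ∀ q : C2, q = 1 ∨ q = σ := by decide
    have hσ1 : σ ≠ 1 := by decide
    have hprod : ∀ f : C2 → Fˣ, ∏ x, f x = f 1 * f σ := fun f =>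
      Fintype.prod_eq_mul (1 : C2) σ (Ne.symm hσ1) (fun x hx => by rcases hσ x with h | h <;> simp [h] at hx)
    refine sqComm_iff.2 fun w => ?_
    -- the swap
    have hswap : (RegularWreathProduct.inl σ : D ≀ᵣ C2) ∈ K := by
      rw [MonoidHom.mem_ker, hdet]; simp
    let t : K := ⟨RegularWreathProduct.inl σ, hswap⟩
    -- the anti-diagonal part
    have hanti : ∀ x : D, wreathBase (fun q : C2 => if q = 1 then x else x⁻¹) ∈ K := fun x => by
      rw [MonoidHom.mem_ker, hdet, hprod]; simp [wreathBase, hσ1]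
    have hanti_sq : ∀ x : D, Abelianization.of (⟨_, hanti x⟩ : K) ^ 2 = 1 := fun x => by
      set a : K := ⟨_, hanti x⟩
      have hconj : t * a * t⁻¹ = a⁻¹ := by
        apply Subtype.ext
        ext q
        · rcases hσ q with rfl | rfl <;>
            simp [t, a, wreathBase, hσ1, show σ⁻¹ = σ by decide, show σ * σ = 1 by decide]
        · simp [t, a, wreathBase, show σ * σ⁻¹ = 1 by decide]
      have h2 := congrArg Abelianization.of hconj
      rw [map_mul, map_mul, map_inv, map_inv, mul_inv_cancel_comm] at h2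
      rw [pow_two]
      nth_rewrite 1 [h2]
      rw [inv_mul_cancel]
    -- the kernel on the second factor
    let ι : (repDet φ).ker →* K :=
      (((wreathBase (D := D) (Q := C2)).comp (MonoidHom.mulSingle (fun _ : C2 => D) σ)).comp
        (repDet φ).ker.subtype).codRestrict K fun d => by
          rw [MonoidHom.mem_ker, hdet, hprod]
          simp [wreathBase, hσ1, Ne.symm hσ1, MonoidHom.mem_ker.1 d.2]
    have hw : repDet φ (w.1.left σ) * repDet φ (w.1.left 1) = 1 := by
      have := MonoidHom.mem_ker.1 w.2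
      rw [hdet, hprod, mul_comm] at this
      exact this
    let d : (repDet φ).ker := ⟨w.1.left 1 * w.1.left σ, by
      rw [MonoidHom.mem_ker, map_mul, mul_comm]; exact hw⟩
    have hdec : ∃ r : K, r ^ 2 = 1 ∧ w = ⟨_, hanti (w.1.left 1)⟩ * ι d * r := by
      rcases hσ w.1.right with hr | hr
      · refine ⟨1, one_pow 2, Subtype.ext ?_⟩
        ext q
        · rcases hσ q with rfl | rfl <;>
            simp [ι, d, wreathBase, hσ1, Ne.symm hσ1, MonoidHom.codRestrict]
        · simp [ι, wreathBase, MonoidHom.codRestrict, hr]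
      · refine ⟨t, Subtype.ext ?_, Subtype.ext ?_⟩
        · show (RegularWreathProduct.inl σ : D ≀ᵣ C2) ^ 2 = 1
          rw [← map_pow, C2_sq, map_one]
        ext q
        · rcases hσ q with rfl | rfl <;>
            simp [ι, d, t, wreathBase, hσ1, Ne.symm hσ1, MonoidHom.codRestrict]
        · simp [ι, t, wreathBase, MonoidHom.codRestrict, hr]
    obtain ⟨r, hr, hdec⟩ := hdec
    rw [hdec, map_mul, map_mul, mul_pow, mul_pow, hanti_sq, hk.sq_of ι d, one_mul, one_mul,
      ← map_pow, hr, map_one]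
  · intro hq3
    obtain ⟨hsq, s, hs, hsdet⟩ := hfull hq3
    refine ⟨sqComm_wreath hsq C2_sq, wreathBase (Pi.mulSingle 1 s), ?_, ?_⟩
    · rw [← map_mul, ← Pi.mulSingle_mul, hs, Pi.mulSingle_one, map_one]
    · rw [hdet, Finset.prod_eq_single 1 (fun x _ hx => by simp [wreathBase, hx]) (by simp)]
      simpa [wreathBase] using hsdet

theorem glGood_add (hF : Odd (Fintype.card F)) (hq3 : Fintype.card F % 4 = 3) (k r : ℕ)
    (hr : r < 2 ^ k) (h : GLGood F (2 ^ k)) (h' : GLGood F r) : GLGood F (2 ^ k + r) := by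
  classical
  obtain ⟨D, _, _, φ, hφ, hc, hk, hfull⟩ := h
  obtain ⟨E, _, _, χ, hχ, hc', hk', hfull'⟩ := h'
  obtain ⟨hsD, s, hs, hsdet⟩ := hfull hq3
  obtain ⟨hsE, t, ht, htdet⟩ := hfull' hq3
  let e : Fin (2 * 2 ^ k) ⊕ Fin (2 * r) ≃ Fin (2 * (2 ^ k + r)) :=
    finSumFinEquiv.trans (finCongr (by ring))
  let ψ : D × E →* Matrix (Fin (2 * (2 ^ k + r))) (Fin (2 * (2 ^ k + r))) F :=
    reindexHom e (sumHom φ χ)
  have hdet : ∀ p : D × E, repDet ψ p = repDet φ p.1 * repDet χ p.2 := fun p => by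
    refine Units.ext ?_
    rw [repDet_coe, det_reindexHom, det_sumHom]
    rfl
  refine ⟨D × E, inferInstance, inferInstance, ψ,
    reindexHom_injective _ _ (sumHom_injective _ _ hφ hχ), ?_, ?_, fun _ => ?_⟩
  · rw [Nat.card_prod, hc, hc', ← pow_add, v_general_even hF, v_general_even hF, v_general_even hF,
      vfac_add k r hr]
    congr 1
    ring
  · set K := (repDet ψ).ker
    have hst : ((s, t) : D × E) ∈ K := by rw [MonoidHom.mem_ker, hdet, hsdet, htdet]; simp
    let ι : (repDet φ).ker →* K :=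
      ((MonoidHom.inl D E).comp (repDet φ).ker.subtype).codRestrict K fun d => by
        rw [MonoidHom.mem_ker, hdet]; simp [MonoidHom.mem_ker.1 d.2]
    let κ : (repDet χ).ker →* K :=
      ((MonoidHom.inr D E).comp (repDet χ).ker.subtype).codRestrict K fun d => by
        rw [MonoidHom.mem_ker, hdet]; simp [MonoidHom.mem_ker.1 d.2]
    refine sqComm_iff.2 fun w => ?_
    have hone : ∀ z : K, repDet φ z.1.1 = 1 → Abelianization.of z ^ 2 = 1 := fun z hz => by
      have hz2 : repDet χ z.1.2 = 1 := by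
        have := MonoidHom.mem_ker.1 z.2
        rwa [hdet, hz, one_mul] at this
      have hdec : z = ι ⟨z.1.1, hz⟩ * κ ⟨z.1.2, hz2⟩ := Subtype.ext (by simp [ι, κ, MonoidHom.codRestrict])
      rw [hdec, map_mul, mul_pow, hk.sq_of ι _, hk'.sq_of κ _, one_mul]
    have hinv : (⟨(s, t), hst⟩ : K) * ⟨(s, t), hst⟩ = 1 := Subtype.ext (Prod.ext hs ht)
    rcases repDet_eq hq3 (IsPGroup.of_card hc) φ w.1.1 with h | h
    · exact hone w h
    · have hdec : w = (w * ⟨(s, t), hst⟩) * ⟨(s, t), hst⟩ := by rw [mul_assoc, hinv, mul_one]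
      rw [hdec, map_mul, mul_pow, hone (w * ⟨(s, t), hst⟩) (by
        show repDet φ (w.1.1 * s) = 1
        rw [map_mul, h, hsdet]; simp), one_mul, ← map_pow, pow_two, hinv, map_one]
  · refine ⟨sqComm_prod hsD hsE, (s, 1), Prod.ext hs (one_mul 1), ?_⟩
    rw [hdet]; simp [hsdet]

theorem glGood (hF : Odd (Fintype.card F)) (hq3 : Fintype.card F % 4 = 3) :
    ∀ m : ℕ, 1 ≤ m → GLGood F m :=
  twoPow_induction (glGood_one hF) (glGood_double hF) fun k r _ hr => glGood_add hF hq3 k r hr

theorem glGood_two_pow (hF : Odd (Fintype.card F)) : ∀ k : ℕ, GLGood F (2 ^ k)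
  | 0 => by simpa using glGood_one hF
  | k + 1 => glGood_double hF k (glGood_two_pow hF k)

theorem sqComm_sylow_special_even (hF : Odd (Fintype.card F)) (m : ℕ) (hm : 1 ≤ m)
    (h : GLGood F m) (P : Sylow 2 (SpecialLinearGroup (Fin (2 * m)) F)) :
    SqComm (P : Subgroup (SpecialLinearGroup (Fin (2 * m)) F)) := by
  classical
  haveI : Fact (Nat.Prime 2) := ⟨Nat.prime_two⟩
  obtain ⟨D, _, _, φ, hφ, hc, hk, -⟩ := h
  obtain ⟨hinj, hcard⟩ := card_ker hF (by omega) φ hφ hc
  obtain ⟨e⟩ := exists_sylow_equiv (kerToSL φ) hinj hcard P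
  exact hk.of_equiv e

theorem sqComm_sylow_special_odd (hF : Odd (Fintype.card F)) (hq3 : Fintype.card F % 4 = 3) (m : ℕ)
    (hm : 1 ≤ m) (P : Sylow 2 (SpecialLinearGroup (Fin (2 * m + 1)) F)) :
    SqComm (P : Subgroup (SpecialLinearGroup (Fin (2 * m + 1)) F)) := by
  classical
  haveI : Fact (Nat.Prime 2) := ⟨Nat.prime_two⟩
  obtain ⟨D, _, _, φ, hφ, hc, -, hfull⟩ := glGood hF hq3 m hm
  let last : D →* Matrix (Fin 1) (Fin 1) F :=
    { toFun := fun d => Matrix.diagonal fun _ => (((repDet φ d)⁻¹ : Fˣ) : F)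
      map_one' := by simp
      map_mul' := fun a b => by simp [Matrix.diagonal_mul_diagonal, mul_comm] }
  let ψ : D →* Matrix (Fin (2 * m + 1)) (Fin (2 * m + 1)) F :=
    reindexHom finSumFinEquiv ((sumHom φ last).comp
      ((MonoidHom.id D).prod (MonoidHom.id D)))
  have hdet : ∀ d, (ψ d).det = 1 := fun d => by
    show (reindexHom finSumFinEquiv _ d).det = 1
    rw [det_reindexHom, MonoidHom.comp_apply, det_sumHom]
    show (φ d).det * (Matrix.diagonal fun _ : Fin 1 => (((repDet φ d)⁻¹ : Fˣ) : F)).det = 1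
    rw [← repDet_coe, Matrix.det_diagonal, Fin.prod_univ_one, Units.mul_inv]
  let f : D →* SpecialLinearGroup (Fin (2 * m + 1)) F :=
    { toFun := fun d => ⟨ψ d, hdet d⟩
      map_one' := Subtype.ext (map_one ψ)
      map_mul' := fun a b => Subtype.ext (map_mul ψ a b) }
  have hf : Function.Injective f := fun a b h => by
    have h1 := (Matrix.reindex finSumFinEquiv finSumFinEquiv).injective (congrArg Subtype.val h)
    exact hφ (Matrix.fromBlocks_inj.1 h1).1
  have h1 := v_special hF (2 * m + 1) (by omega)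
  rw [v_general hF, v_glProd_succ_odd hF Fintype.one_lt_card, ← v_general hF] at h1
  obtain ⟨e⟩ := exists_sylow_equiv f hf (by rw [hc, Nat.add_right_cancel h1]) P
  exact (hfull hq3).1.of_equiv e

end Cfsg.Agent.Lib.ClassicalSylowTwo
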