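import Mathlib
import Cfsg.Agent.Lib.ClassicalSylowTwo.Group
import Cfsg.Agent.Lib.ClassicalSylowTwo.Arith
import Cfsg.Agent.Lib.ClassicalSylowTwo.Mono
import Cfsg.Agent.Lib.Classical.Symplectic
import Cfsg.Agent.Lib.LinGroup.SLTwoTwoSylow

/-!
# Sylow 2-subgroups of symplectic groups in odd characteristic
-/

set_option autoImplicit false

namespace Cfsg.Agent.Lib.ClassicalSylowTwo

open Matrix

variable {F : Type*} [Field F] [Fintype F]

/-- 2-part exponent of `|Sp_{2n}(F)|` -/
theorem v_symplectic (hF : Odd (Fintype.card F)) (n : ℕ) :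
    (Nat.card (Matrix.symplecticGroup (Fin n) F)).factorization 2 =
      n * padicValNat 2 (Fintype.card F ^ 2 - 1) + padicValNat 2 n.factorial := by
  have hq2 : 2 ≤ Fintype.card F := Fintype.one_lt_card
  rw [Classical.natCard_symplecticGroup, Nat.card_eq_fintype_card, Nat.factorization_def _ Nat.prime_two,
    show (∏ i ∈ Finset.range n, (Fintype.card F ^ (2 * (i + 1)) - 1)) = spProd (Fintype.card F) n from rfl,
    padicValNat.mul (pow_ne_zero _ (by omega)) (spProd_ne_zero hq2 n), ← v_spProd hF hq2 n,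
    padicValNat.eq_zero_of_not_dvd (fun h => ?_), zero_add]
  have := Nat.prime_two.dvd_of_dvd_pow h
  rw [Nat.odd_iff] at hF
  omega

section
variable {κ η : Type*} [Fintype κ] [DecidableEq κ] [Fintype η] [DecidableEq η]

omit [Fintype F] [Fintype κ] [Fintype η] in
theorem reindex_J_sum :
    Matrix.reindex (Equiv.sumSumSumComm κ κ η η) (Equiv.sumSumSumComm κ κ η η)
      (Matrix.fromBlocks (Matrix.J κ F) 0 0 (Matrix.J η F)) = Matrix.J (κ ⊕ η) F := by
  ext a b
  rcases a with (a | a) | (a | a) <;> rcases b with (b | b) | (b | b) <;>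
    simp [Matrix.J, Matrix.one_apply]

omit [Fintype F] [Fintype κ] [Fintype η] in
theorem reindex_J_congr (e : κ ≃ η) :
    Matrix.reindex (e.sumCongr e) (e.sumCongr e) (Matrix.J κ F) = Matrix.J η F := by
  ext a b
  rcases a with a | a <;> rcases b with b | b <;> simp [Matrix.J, Matrix.one_apply]

variable {Q : Type*} [DecidableEq Q]

omit [Fintype F] [Fintype κ] in
theorem reindex_J_prod :
    Matrix.reindex (Equiv.sumProdDistrib κ κ Q) (Equiv.sumProdDistrib κ κ Q)
      (Matrix.blockDiagonal fun _ : Q => Matrix.J κ F) = Matrix.J (κ × Q) F := by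
  ext a b
  rcases a with ⟨a, x⟩ | ⟨a, x⟩ <;> rcases b with ⟨b, y⟩ | ⟨b, y⟩ <;>
    by_cases hxy : x = y <;> simp [Matrix.J, Matrix.one_apply, Matrix.blockDiagonal_apply, hxy]

/-- a representation preserving `J`, as a map into the symplectic group -/
def toSymp {D : Type*} [Group D] (φ : D →* Matrix (κ ⊕ κ) (κ ⊕ κ) F)
    (h : ∀ d, φ d * Matrix.J κ F * (φ d)ᵀ = Matrix.J κ F) : D →* Matrix.symplecticGroup κ F where
  toFun d := ⟨φ d, SymplecticGroup.mem_iff.2 (h d)⟩
  map_one' := Subtype.ext (map_one φ)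
  map_mul' a b := Subtype.ext (map_mul φ a b)

end

/-- the structure proved by induction -/
def SpGood (F : Type*) [Field F] (n : ℕ) : Prop :=
  ∃ R : Subgroup (Matrix.symplecticGroup (Fin n) F),
    Nat.card R = 2 ^ (Nat.card (Matrix.symplecticGroup (Fin n) F)).factorization 2 ∧
      SqComm R ∧ DerLen R (Nat.log 2 n + 1)

theorem spGood_of_rep {n : ℕ} {D κ : Type*} [Group D] [Fintype κ] [DecidableEq κ] (e : κ ≃ Fin n)
    (φ : D →* Matrix (κ ⊕ κ) (κ ⊕ κ) F) (hφ : Function.Injective φ)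
    (hJ : ∀ d, φ d * Matrix.J κ F * (φ d)ᵀ = Matrix.J κ F)
    (hcard : Nat.card D = 2 ^ (Nat.card (Matrix.symplecticGroup (Fin n) F)).factorization 2)
    (h1 : SqComm D) (h2 : DerLen D (Nat.log 2 n + 1)) : SpGood F n := by
  let ψ := reindexHom (e.sumCongr e) φ
  have hψ : ∀ d, ψ d * Matrix.J (Fin n) F * (ψ d)ᵀ = Matrix.J (Fin n) F := fun d => by
    have := reindexHom_preserves (e.sumCongr e) φ _ hJ d
    rwa [reindex_J_congr] at this
  let f := toSymp ψ hψ
  have hf : Function.Injective f := fun a b h =>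
    reindexHom_injective _ φ hφ (congrArg Subtype.val h)
  exact ⟨f.range, by rw [← hcard]; exact (Nat.card_congr (MonoidHom.ofInjective hf).toEquiv).symm,
    h1.of_equiv (MonoidHom.ofInjective hf), h2.of_equiv (MonoidHom.ofInjective hf)⟩

/-- inclusion of a subgroup of the symplectic group as a matrix representation -/
def sympRep {n : ℕ} (R : Subgroup (Matrix.symplecticGroup (Fin n) F)) :
    R →* Matrix (Fin n ⊕ Fin n) (Fin n ⊕ Fin n) F :=
  (Matrix.symplecticGroup (Fin n) F).subtype.comp R.subtype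

theorem sympRep_injective {n : ℕ} (R : Subgroup (Matrix.symplecticGroup (Fin n) F)) :
    Function.Injective (sympRep R) :=
  fun _ _ h => Subtype.ext (Subtype.ext h)

theorem sympRep_preserves {n : ℕ} (R : Subgroup (Matrix.symplecticGroup (Fin n) F)) (r : R) :
    sympRep R r * Matrix.J (Fin n) F * (sympRep R r)ᵀ = Matrix.J (Fin n) F :=
  SymplecticGroup.mem_iff.1 r.1.2

theorem sl_two_preserves (A : Matrix (Fin 2) (Fin 2) F) :
    A * !![0, -1; 1, 0] * Aᵀ = A.det • !![0, -1; 1, 0] := by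
  ext i j
  fin_cases i <;> fin_cases j <;> simp [Matrix.mul_apply, Matrix.det_fin_two, Fin.sum_univ_two] <;>
    ring

theorem spGood_one (hF : Odd (Fintype.card F)) : SpGood F 1 := by
  classical
  let e : Fin 2 ≃ Fin 1 ⊕ Fin 1 := (finSumFinEquiv (m := 1) (n := 1)).symm
  have hJ : Matrix.reindex e e !![0, -1; 1, 0] = Matrix.J (Fin 1) F := by
    ext a b
    rcases a with a | a <;> rcases b with b | b <;> fin_cases a <;> fin_cases b <;>
      simp [e, Matrix.J, finSumFinEquiv, Fin.castAdd, Fin.natAdd]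
  let φ : SpecialLinearGroup (Fin 2) F →* Matrix (Fin 2) (Fin 2) F :=
    { toFun := fun A => A.1
      map_one' := rfl
      map_mul' := fun _ _ => rfl }
  let ψ := reindexHom e φ
  have hψ : ∀ d, ψ d * Matrix.J (Fin 1) F * (ψ d)ᵀ = Matrix.J (Fin 1) F := fun d => by
    have := reindexHom_preserves e φ _ (fun A => by
      show A.1 * _ * A.1ᵀ = _
      rw [sl_two_preserves, A.2, one_smul]) d
    rwa [hJ] at this
  have hbij : Function.Bijective (toSymp ψ hψ) := by
    refine ⟨fun a b h => ?_, fun g => ?_⟩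
    · exact Subtype.ext ((Matrix.reindex e e).injective (congrArg Subtype.val h))
    · set A : Matrix (Fin 2) (Fin 2) F := (Matrix.reindex e e).symm g.1
      have hg : Matrix.reindex e e A = g.1 := (Matrix.reindex e e).apply_symm_apply g.1
      have h1 := SymplecticGroup.mem_iff.1 g.2
      rw [← hg, ← hJ, Matrix.transpose_reindex] at h1
      simp only [Matrix.reindex_apply, Matrix.submatrix_mul_equiv] at h1
      rw [sl_two_preserves] at h1
      have h2 := congrFun (congrFun h1 (e 1)) (e 0)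
      simp at h2
      exact ⟨⟨A, h2⟩, Subtype.ext hg⟩
  obtain ⟨P⟩ : Nonempty (Sylow 2 (SpecialLinearGroup (Fin 2) F)) := Sylow.nonempty
  obtain ⟨k, hk, hfac, ⟨iso⟩⟩ := LinGroup.exists_sylow_two_equiv_quaternion hF P
  haveI : Fact (Nat.Prime 2) := ⟨Nat.prime_two⟩
  have hk2 : 2 ≤ 2 ^ k := by
    calc 2 = 2 ^ 1 := by norm_num
      _ ≤ 2 ^ k := Nat.pow_le_pow_right (by norm_num) hk
  refine spGood_of_rep (Equiv.refl (Fin 1)) (ψ.comp (P : Subgroup _).subtype)
    (fun a b h => ?_) (fun d => hψ d) ?_ ?_ ?_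
  · exact Subtype.ext (Subtype.ext ((Matrix.reindex e e).injective h))
  · rw [← Nat.card_eq_of_bijective _ hbij]
    exact Sylow.card_eq_multiplicity P
  · exact (quaternion_sqComm ((Nat.even_pow).2 ⟨even_two, by omega⟩)).of_equiv iso.symm
  · simpa using (quaternion_derLen hk2).of_equiv iso.symm

theorem spGood_double (hF : Odd (Fintype.card F)) (k : ℕ) (h : SpGood F (2 ^ k)) :
    SpGood F (2 ^ (k + 1)) := by
  obtain ⟨R, hc, h1, h2⟩ := h
  let φ := reindexHom (Equiv.sumProdDistrib (Fin (2 ^ k)) (Fin (2 ^ k)) C2)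
    (monoHom (Q := C2) (sympRep R))
  have hnonempty : Nonempty (Fin (2 ^ k) ⊕ Fin (2 ^ k)) := ⟨.inl ⟨0, Nat.two_pow_pos k⟩⟩
  refine spGood_of_rep (D := R ≀ᵣ C2) (κ := Fin (2 ^ k) × C2)
    (Fintype.equivFinOfCardEq (by simp [pow_succ])) φ
    (reindexHom_injective _ _ (monoHom_injective _ (sympRep_injective R))) (fun d => ?_) ?_ ?_ ?_
  · have := reindexHom_preserves (Equiv.sumProdDistrib (Fin (2 ^ k)) (Fin (2 ^ k)) C2)
      (monoHom (Q := C2) (sympRep R)) _ (monoHom_preserves _ _ (sympRep_preserves R)) d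
    rwa [reindex_J_prod] at this
  · rw [RegularWreathProduct.card, natCard_C2, hc, ← pow_mul, ← pow_succ, v_symplectic hF,
      v_symplectic hF, pow_succ' 2 k, vfac_two_mul]
    have := vfac_two_pow k
    congr 1
    rw [mul_assoc]
    omega
  · exact sqComm_wreath h1 C2_sq
  · rw [Nat.log_pow one_lt_two] at h2 ⊢
    exact derLen_wreath h2

theorem spGood_add (hF : Odd (Fintype.card F)) (k r : ℕ) (hr0 : 0 < r) (hr : r < 2 ^ k)
    (h : SpGood F (2 ^ k)) (h' : SpGood F r) : SpGood F (2 ^ k + r) := by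
  obtain ⟨R, hc, h1, h2⟩ := h
  obtain ⟨S, hc', h1', h2'⟩ := h'
  let φ := reindexHom (Equiv.sumSumSumComm (Fin (2 ^ k)) (Fin (2 ^ k)) (Fin r) (Fin r))
    (sumHom (sympRep R) (sympRep S))
  refine spGood_of_rep (D := R × S) finSumFinEquiv φ
    (reindexHom_injective _ _ (sumHom_injective _ _ (sympRep_injective R) (sympRep_injective S)))
    (fun d => ?_) ?_ (sqComm_prod h1 h1') ?_
  · have := reindexHom_preserves (Equiv.sumSumSumComm (Fin (2 ^ k)) (Fin (2 ^ k)) (Fin r) (Fin r))
      (sumHom (sympRep R) (sympRep S)) _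
      (sumHom_preserves _ _ _ _ (sympRep_preserves R) (sympRep_preserves S)) d
    rwa [reindex_J_sum] at this
  · rw [Nat.card_prod, hc, hc', ← pow_add, v_symplectic hF, v_symplectic hF, v_symplectic hF,
      vfac_add k r hr]
    congr 1
    ring
  · rw [Nat.log_pow one_lt_two] at h2
    rw [log_two_pow_add k r hr]
    refine derLen_prod h2 h2' ?_
    have : Nat.log 2 r < k := Nat.log_lt_of_lt_pow (by omega) hr
    omega

theorem spGood (hF : Odd (Fintype.card F)) : ∀ n : ℕ, 1 ≤ n → SpGood F n :=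
  twoPow_induction (spGood_one hF) (spGood_double hF) (spGood_add hF)

/-- every Sylow 2-subgroup of `Sp_{2n}(F)` -/
theorem sylow_symplectic (hF : Odd (Fintype.card F)) (n : ℕ) (hn : 1 ≤ n)
    (P : Sylow 2 (Matrix.symplecticGroup (Fin n) F)) :
    SqComm (P : Subgroup (Matrix.symplecticGroup (Fin n) F)) ∧
      DerLen (P : Subgroup (Matrix.symplecticGroup (Fin n) F)) (Nat.log 2 n + 1) := by
  obtain ⟨R, hc, h1, h2⟩ := spGood hF n hn
  haveI : Finite (Matrix.symplecticGroup (Fin n) F) :=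
    Finite.of_injective (fun g => (g : Matrix (Fin n ⊕ Fin n) (Fin n ⊕ Fin n) F)) Subtype.val_injective
  obtain ⟨e⟩ := exists_sylow_equiv R.subtype R.subtype_injective hc P
  exact ⟨h1.of_equiv e, h2.of_equiv e⟩

end Cfsg.Agent.Lib.ClassicalSylowTwo
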